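import Mathlib.Algebra.Homology.DerivedCategory.RightDerivedFunctorPlus
import Mathlib.CategoryTheory.Functor.Derived.Adjunction
import Mathlib.CategoryTheory.Adjunction.Restrict
import Groth.Agent.DRing.DerivedAdj

/-!
The derived adjunction on bounded below derived categories, for an exact left adjoint.
-/

universe w₁ w₂ v₁ v₂ u₁ u₂

open CategoryTheory CategoryTheory.Limits

namespace Groth.Agent.DPlusAdj.Basic

variable {A : Type u₁} [Category.{v₁} A] [Abelian A] [HasDerivedCategory.{w₁} A]
  {B : Type u₂} [Category.{v₂} B] [Abelian B] [HasDerivedCategory.{w₂} B]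
  (L : A ⥤ B) [L.Additive] [PreservesFiniteLimits L] [PreservesFiniteColimits L]

lemma isInvertedBy_plus : (HomotopyCategory.Plus.quasiIso A).IsInvertedBy
    (L.mapHomotopyCategoryPlus ⋙ DerivedCategory.Plus.Qh) := by
  intro X Y f hf
  have h1 : HomotopyCategory.quasiIso B (ComplexShape.up ℤ)
      ((L.mapHomotopyCategory (ComplexShape.up ℤ)).map f.hom) := by
    obtain ⟨g, hg⟩ := (HomotopyCategory.quotient A (ComplexShape.up ℤ)).map_surjective
      (show (HomotopyCategory.quotient A (ComplexShape.up ℤ)).obj X.obj.as ⟶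
        (HomotopyCategory.quotient A (ComplexShape.up ℤ)).obj Y.obj.as from f.hom)
    have hf' : HomotopyCategory.quasiIso A (ComplexShape.up ℤ) f.hom := hf
    rw [show f.hom = (HomotopyCategory.quotient A (ComplexShape.up ℤ)).map g from hg.symm] at hf' ⊢
    have hq : QuasiIso g := (HomotopyCategory.quotient_map_mem_quasiIso_iff g).mp hf'
    exact (HomotopyCategory.quotient_map_mem_quasiIso_iff _).mpr
      (inferInstanceAs (QuasiIso ((L.mapHomologicalComplex (ComplexShape.up ℤ)).map g)))
  exact Localization.inverts DerivedCategory.Plus.Qh (HomotopyCategory.Plus.quasiIso B) _ h1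

/-- The adjunction on bounded below homotopy categories. -/
noncomputable def plusAdj {R : B ⥤ A} [R.Additive] (adj : L ⊣ R) :
    L.mapHomotopyCategoryPlus ⊣ R.mapHomotopyCategoryPlus :=
  (DRing.DerivedAdj.mapHomotopyCategoryAdj adj).restrictFullyFaithful
    (HomotopyCategory.plus A).fullyFaithfulι (HomotopyCategory.plus B).fullyFaithfulι
    (Iso.refl _) (Iso.refl _)

/-- An exact left adjoint induces a left adjoint of the derived functor on `D⁺`. -/
theorem nonempty_adjunction [EnoughInjectives A] [EnoughInjectives B]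
    {R : B ⥤ A} [R.Additive] (adj : L ⊣ R) :
    Nonempty (L.rightDerivedFunctorPlus ⊣ R.rightDerivedFunctorPlus) := by
  let W₁ := HomotopyCategory.Plus.quasiIso A
  let W₂ := HomotopyCategory.Plus.quasiIso B
  let adjK := plusAdj L adj
  let G' := L.rightDerivedFunctorPlus
  let β := R.rightDerivedFunctorPlusUnit
  have : IsIso L.rightDerivedFunctorPlusUnit :=
    Functor.isIso_of_isRightDerivedFunctor_of_inverts G' L.rightDerivedFunctorPlusUnit
      (isInvertedBy_plus L)
  let eα : DerivedCategory.Plus.Qh ⋙ G' ≅ L.mapHomotopyCategoryPlus ⋙ DerivedCategory.Plus.Qh :=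
    (asIso L.rightDerivedFunctorPlusUnit).symm
  have hG : G'.IsLeftDerivedFunctor eα.hom W₁ :=
    Functor.isLeftDerivedFunctor_of_inverts _ _ eα
  have hGF : (G' ⋙ R.rightDerivedFunctorPlus).IsLeftDerivedFunctor
      ((Functor.associator _ _ _).inv ≫ Functor.whiskerRight eα.hom R.rightDerivedFunctorPlus) W₁ :=
    Functor.isLeftDerivedFunctor_of_inverts _ _
      ((Functor.associator _ _ _).symm ≪≫ Functor.isoWhiskerRight eα R.rightDerivedFunctorPlus)
  have hFG : (R.rightDerivedFunctorPlus ⋙ G').IsRightDerivedFunctor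
      (Functor.whiskerRight β G' ≫ (Functor.associator _ _ _).hom) W₂ := by
    refine (HomotopyCategory.Plus.localizerMorphism_derives
      ((R.mapHomotopyCategoryPlus ⋙ DerivedCategory.Plus.Qh) ⋙ G')).isRightDerivedFunctor_of_isIso _
        fun X => ?_
    change IsIso (G'.map (β.app ((InjectiveObject.ι B).mapHomotopyCategoryPlus.obj X)) ≫ 𝟙 _)
    infer_instance
  exact ⟨Adjunction.derived adjK W₁ W₂ eα.hom β⟩

end Groth.Agent.DPlusAdj.Basic
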