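import Groth.Agent.DPlusAdj.Basic
import Groth.Agent.DTrunc.DerivedPushAdj
import Groth.Agent.RDPlus.Basic

/-!
The bounded below and the unbounded right derived functors agree.
-/

universe w₁ w₂ v₁ v₂ u₁ u₂

open CategoryTheory CategoryTheory.Limits

namespace Groth.Agent.DPlusAdj.Compare

variable {A : Type u₁} [Category.{v₁} A] [Abelian A] [HasDerivedCategory.{w₁} A]
  {B : Type u₂} [Category.{v₂} B] [Abelian B] [HasDerivedCategory.{w₂} B]
  (R : A ⥤ B) [R.Additive] [EnoughInjectives A] [IsGrothendieckAbelian.{v₁} A]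
  (RR : DerivedCategory A ⥤ DerivedCategory B)
  (β : R.mapHomotopyCategory (ComplexShape.up ℤ) ⋙ DerivedCategory.Qh ⟶ DerivedCategory.Qh ⋙ RR)
  [RR.IsRightDerivedFunctor β (HomotopyCategory.quasiIso A (ComplexShape.up ℤ))]

include β in
/-- `RF` on `D⁺` is the restriction of `RF` on `D`. -/
theorem nonempty_iso : Nonempty (R.rightDerivedFunctorPlus ⋙ (DerivedCategory.Plus.ι :
    DerivedCategory.Plus B ⥤ DerivedCategory B) ≅
      (DerivedCategory.Plus.ι : DerivedCategory.Plus A ⥤ DerivedCategory A) ⋙ RR) := by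
  let W := HomotopyCategory.Plus.quasiIso A
  let F : HomotopyCategory.Plus A ⥤ DerivedCategory B :=
    (R.mapHomotopyCategoryPlus ⋙ DerivedCategory.Plus.Qh) ⋙ DerivedCategory.Plus.ι
  let hder := HomotopyCategory.Plus.localizerMorphism_derives F
  let α₁ : F ⟶ DerivedCategory.Plus.Qh ⋙ (R.rightDerivedFunctorPlus ⋙ DerivedCategory.Plus.ι) :=
    Functor.whiskerRight R.rightDerivedFunctorPlusUnit DerivedCategory.Plus.ι ≫ (Functor.associator _ _ _).hom
  let α₂ : F ⟶ DerivedCategory.Plus.Qh ⋙ (DerivedCategory.Plus.ι ⋙ RR) :=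
    { app := fun K => β.app K.obj
      naturality := fun K L f => β.naturality f.hom }
  have hen : DTrunc.RightDerived.HasEnough DerivedCategory.Qh
      (R.mapHomotopyCategory (ComplexShape.up ℤ) ⋙ DerivedCategory.Qh) :=
    DTrunc.RightDerived.hasEnough _
  have h₁ : (R.rightDerivedFunctorPlus ⋙ DerivedCategory.Plus.ι).IsRightDerivedFunctor α₁ W :=
    hder.isRightDerivedFunctor_of_isIso α₁ fun X => by
      change IsIso (DerivedCategory.Plus.ι.map (R.rightDerivedFunctorPlusUnit.app
        ((InjectiveObject.ι A).mapHomotopyCategoryPlus.obj X)) ≫ 𝟙 _)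
      infer_instance
  have h₂ : (DerivedCategory.Plus.ι ⋙ RR).IsRightDerivedFunctor α₂ W :=
    hder.isRightDerivedFunctor_of_isIso α₂ fun X => by
      have : CochainComplex.IsKInjective
          ((InjectiveObject.ι A).mapHomotopyCategoryPlus.obj X).obj.as :=
        Groth.Agent.RDPlus.Basic.isKInjective_inj X
      exact hen.isIso_app (W := HomotopyCategory.quasiIso A (ComplexShape.up ℤ)) RR β
        (DTrunc.RightDerived.isGood_quotient _ ((InjectiveObject.ι A).mapHomotopyCategoryPlus.obj X).obj.as)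
  exact ⟨Functor.rightDerivedUnique _ _ α₁ α₂ W⟩

end Groth.Agent.DPlusAdj.Compare
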